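import Groth.Agent.L14.BorelLoc.FieldBorel
import Groth.Agent.L08.Borel.OverField
import Groth.Agent.L08.Borel.RedComp
import Groth.Agent.L08.Borel.MaxTorusDesc
import Groth.Agent.L08.Borel.BorelPreimage
import Groth.Agent.S3905

/-!
# Base change of Borel subgroups
-/

set_option autoImplicit false
set_option linter.unusedSectionVars false
set_option linter.style.haveILetI false
set_option backward.isDefEq.respectTransparency.types false
set_option maxHeartbeats 800000

universe u

open CategoryTheory CategoryTheory.Limits MonoidalCategory CartesianMonoidalCategory MonObj AlgebraicGeometry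

noncomputable section

namespace Groth.L14.BorelLoc

open Groth.L08.Borel

variable {K : Type u} [Field K] [IsAlgClosed K]

/-- Borel subgroups transfer along isomorphisms of the group -/
theorem isBorelOver_target {G G' B : Over (Spec (CommRingCat.of K))} [GrpObj G] [GrpObj G'] [GrpObj B] {i : B ⟶ G}
    (h : Red.IsBorelOver K i) (φ : G ≅ G') [IsMonHom φ.hom] [IsMonHom φ.inv] : Red.IsBorelOver K (i ≫ φ.hom) := by
  haveI := h.1; haveI := h.2.1; haveI := h.2.2.1
  haveI : IsIso φ.hom.left := inferInstanceAs (IsIso ((Over.forget _).map φ.hom))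
  haveI : IsIso φ.inv.left := inferInstanceAs (IsIso ((Over.forget _).map φ.inv))
  refine ⟨inferInstance, inferInstanceAs (IsClosedImmersion (i.left ≫ φ.hom.left)), h.2.2.1, h.2.2.2.1, h.2.2.2.2.1,
    fun B' _ i' _ f a1 a2 a3 a4 hf => ?_⟩
  haveI := a1
  exact h.2.2.2.2.2 B' (i' ≫ φ.inv) f (inferInstanceAs (IsClosedImmersion (i'.left ≫ φ.inv.left))) a2 a3 a4
    (by rw [← Category.assoc, hf, Category.assoc, Iso.hom_inv_id, Category.comp_id])

/-- Borel subgroups stay Borel subgroups over bigger algebraically closed fields -/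
theorem isBorelOver_bc {G B : Over (Spec (CommRingCat.of K))} [GrpObj G] [GrpObj B] [IsAffine G.left] [Smooth G.hom]
    [ConnectedSpace G.left] {i : B ⟶ G} (h : Red.IsBorelOver K i) {L : Type u} [Field L] [IsAlgClosed L]
    (θ : Spec (CommRingCat.of L) ⟶ Spec (CommRingCat.of K)) : Red.IsBorelOver L ((Over.pullback θ).map i) := by
  haveI := h.1; haveI := h.2.1; haveI := h.2.2.1; haveI := h.2.2.2.1
  haveI : Mono i := Over.mono_of_mono_left i
  haveI : LocallyOfFiniteType G.hom := inferInstance
  obtain ⟨X, a, o, hX⟩ := exists_isQuotient i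
  have hp : IsProper (Red.bc θ X).hom :=
    (isProper_iff_bc hX θ).1 (quotient_borel_props (isBorel_of_isBorelOver h) hX).1
  haveI := isAffine_bc θ G
  haveI := smooth_bc θ G
  haveI := connectedSpace_bc' θ G
  haveI := smooth_bc θ B
  haveI := connectedSpace_bc' θ B
  haveI : IsMonHom ((Over.pullback θ).map i) := Groth.L25.MonoClosed.isMonHom_pullbackMap _ _
  exact Groth.Agent.S3905.result L _ _ ((Over.pullback θ).map i) (isClosedImmersion_map θ i)
    (isSolvableGrp_bc θ h.2.2.2.2.1) _ (bcAct θ a) (bcPt θ o) (isQuotient_bc θ hX) hp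

/-- **Borel subgroups are stable under base change** -/
theorem isBorel_bc {S V : Scheme.{u}} {G B : Over S} [GrpObj G] [GrpObj B] (hG : Red.IsReductive G) {i : B ⟶ G}
    (hB : Red.IsBorel i) (j : V ⟶ S) : Red.IsBorel ((Over.pullback j).map i) := by
  haveI := hB.1; haveI := hB.2.1; haveI := hB.2.2.1
  refine ⟨Groth.L25.MonoClosed.isMonHom_pullbackMap _ _,
    MorphismProperty.overPullbackMap (P := @IsClosedImmersion) _ _ hB.2.1,
    MorphismProperty.pullback_snd (P := @Smooth) _ _ hB.2.2.1, fun p => ?_⟩
  obtain ⟨θ, hθ⟩ := exists_geomPt_map j p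
  obtain ⟨ha, hs, hc, -⟩ := hG.2.2 (j p)
  haveI := ha; haveI := hs; haveI := hc
  have h1 := isBorelOver_bc (hB.2.2.2 (j p)) θ
  haveI : IsMonHom (fibreIso j θ hθ G).symm.hom := (isMonHom_fibreIso j θ hθ G).2
  haveI : IsMonHom (fibreIso j θ hθ G).symm.inv := (isMonHom_fibreIso j θ hθ G).1
  have h2 := isBorelOver_target h1 (fibreIso j θ hθ G).symm
  haveI : IsMonHom ((Over.pullback (Red.geomPt p)).map ((Over.pullback j).map i)) := by
    haveI : IsMonHom ((Over.pullback j).map i) := Groth.L25.MonoClosed.isMonHom_pullbackMap _ _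
    exact Groth.L25.MonoClosed.isMonHom_pullbackMap _ _
  refine isBorelOver_iso_comp h2 (fibreIso j θ hθ B) _ ?_
  rw [← Category.assoc, ← fibreIso_naturality, Category.assoc]
  exact (congrArg _ (Iso.hom_inv_id _)).trans (Category.comp_id _)

end Groth.L14.BorelLoc
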