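import Groth.Agent.L14.BorelLoc.BorelBC
import Groth.Agent.L14.Chev.Pinned
import Groth.Agent.L14.RankOne.NonComm
import Groth.Agent.L25.CentralLift.Etale
import Groth.Agent.L14.Luna.SemiRank.SplitField

/-!
# Local conjugacy of subgroups
-/

set_option autoImplicit false
universe u

open CategoryTheory CategoryTheory.Limits AlgebraicGeometry MonoidalCategory CartesianMonoidalCategory MonObj
open Groth.L25 Groth.L14

set_option backward.isDefEq.respectTransparency.types false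
set_option linter.style.haveILetI false
set_option linter.unusedSectionVars false
set_option linter.deprecated false
set_option maxHeartbeats 800000

noncomputable section

namespace Groth.L14.BorelLoc

variable {S : Scheme.{u}} {G B B' : Over S} [GrpObj G] [GrpObj B] [GrpObj B']

/-- two subgroups are conjugate etale locally at a point -/
def ConjLoc (i : B ⟶ G) (i' : B' ⟶ G) (s : S) : Prop :=
  ∃ (U : Scheme.{u}) (f : U ⟶ S) (_ : Etale f), s ∈ Set.range f.base ∧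
    ∃ g : 𝟙_ _ ⟶ Red.bc f G, RedSub.ConjEq ((Over.pullback f).map i) ((Over.pullback f).map i') g

theorem conjEq_trans {B'' : Over S} [GrpObj B''] {i : B ⟶ G} {i' : B' ⟶ G} {i'' : B'' ⟶ G} {g g' : 𝟙_ _ ⟶ G}
    (h : RedSub.ConjEq i i' g) (h' : RedSub.ConjEq i' i'' g') : RedSub.ConjEq i i'' (g' * g) := by
  intro X x
  refine ⟨fun a => ?_, fun c => ?_⟩
  · obtain ⟨a', ha'⟩ := (h X x).1 a
    obtain ⟨c, hc⟩ := (h' X x).1 a'
    refine ⟨c, ?_⟩
    rw [← hc, ← ha', MonObj.comp_mul]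
    group
  · obtain ⟨a', ha'⟩ := (h' X x).2 c
    obtain ⟨a, ha⟩ := (h X x).2 a'
    refine ⟨a, ?_⟩
    rw [← ha, ← ha', MonObj.comp_mul]
    group

theorem conjEq_inner (i : B ⟶ G) (g : 𝟙_ _ ⟶ G) : RedSub.ConjEq i (i ≫ Chev.inner g) g := by
  intro X x
  obtain rfl : x = toUnit X := toUnit_unique _ _
  have e : ∀ h : X ⟶ B, h ≫ i ≫ Chev.inner g = (toUnit X ≫ g) * (h ≫ i) * (toUnit X ≫ g)⁻¹ := fun h => by
    rw [← Category.assoc, Chev.comp_inner]
  exact ⟨fun h => ⟨h, (e h).symm⟩, fun h => ⟨h, by rw [e h]; group⟩⟩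

theorem conjEq_iso {B'' : Over S} [GrpObj B''] {i : B ⟶ G} {i' : B' ⟶ G} {i'' : B'' ⟶ G} {g : 𝟙_ _ ⟶ G}
    (h : RedSub.ConjEq i i' g) (φ : B'' ≅ B') (hφ : φ.hom ≫ i' = i'') : RedSub.ConjEq i i'' g := by
  intro X x
  refine ⟨fun a => ?_, fun c => ?_⟩
  · obtain ⟨a', ha'⟩ := (h X x).1 a
    exact ⟨a' ≫ φ.inv, by rw [ha', Category.assoc, ← hφ, Iso.inv_hom_id_assoc]⟩
  · obtain ⟨a, ha⟩ := (h X x).2 (c ≫ φ.hom)
    exact ⟨a, by rw [← ha, Category.assoc, hφ]⟩

theorem conjEq_transport {G₂ C C' : Over S} [GrpObj G₂] [GrpObj C] [GrpObj C'] {i : B ⟶ G} {i' : B' ⟶ G}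
    {j : C ⟶ G₂} {j' : C' ⟶ G₂} {g : 𝟙_ _ ⟶ G} (h : RedSub.ConjEq i i' g) (φ : G ≅ G₂) [IsMonHom φ.hom]
    (a : B ≅ C) (a' : B' ≅ C') (ha : i ≫ φ.hom = a.hom ≫ j) (ha' : i' ≫ φ.hom = a'.hom ≫ j') :
    RedSub.ConjEq j j' (g ≫ φ.hom) := by
  intro X x
  refine ⟨fun c => ?_, fun c => ?_⟩
  · obtain ⟨y, hy⟩ := (h X x).1 (c ≫ a.inv)
    refine ⟨y ≫ a'.hom, ?_⟩
    have := congrArg (· ≫ φ.hom) hy
    simp only [MonObj.mul_comp, GrpObj.inv_comp, Category.assoc, ha, Iso.inv_hom_id_assoc, ha'] at this ⊢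
    exact this
  · obtain ⟨y, hy⟩ := (h X x).2 (c ≫ a'.inv)
    refine ⟨y ≫ a.hom, ?_⟩
    have := congrArg (· ≫ φ.hom) hy
    simp only [MonObj.mul_comp, GrpObj.inv_comp, Category.assoc, ha', Iso.inv_hom_id_assoc, ha] at this ⊢
    exact this

/-- local conjugacy descends along etale base change -/
theorem conjLoc_bc {V : Scheme.{u}} (f : V ⟶ S) [Etale f] (i : B ⟶ G) (i' : B' ⟶ G) (v : V)
    (h : ConjLoc ((Over.pullback f).map i) ((Over.pullback f).map i') v) : ConjLoc i i' (f v) := by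
  obtain ⟨U, f', hf', ⟨u, hu⟩, g, hg⟩ := h
  haveI := hf'
  let jG : Red.bc f' (Red.bc f G) ≅ Red.bc (f' ≫ f) G := ActBC.bcCompIso f' f G rfl
  haveI : IsMonHom jG.hom := ActBC.bcCompIso_isMonHom (G := G) _ _ _
  refine ⟨U, f' ≫ f, inferInstance, ⟨u, ?_⟩, g ≫ jG.hom,
    conjEq_transport hg jG (ActBC.bcCompIso f' f B rfl) (ActBC.bcCompIso f' f B' rfl)
      (ActBC.bcCompIso_hom_naturality f' f rfl i) (ActBC.bcCompIso_hom_naturality f' f rfl i')⟩
  show (f' ≫ f) u = f v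
  rw [Scheme.Hom.comp_apply]
  exact congrArg f hu

/-- base change of an inner automorphism -/
theorem map_inner {V : Scheme.{u}} (f : V ⟶ S) (g : 𝟙_ _ ⟶ G) :
    ∃ g' : 𝟙_ _ ⟶ Red.bc f G, (Over.pullback f).map (Chev.inner g) = Chev.inner g' := by
  refine ⟨NilAction.ofBase f (toUnit _ ≫ g), Luna.SemiRank.toBase_inj f ?_⟩
  let g' : 𝟙_ (Over V) ⟶ Red.bc f G := NilAction.ofBase f (toUnit _ ≫ g)
  let X : Over V := Red.bc f G
  have hinv : ∀ z : X ⟶ Red.bc f G, NilAction.toBase f z⁻¹ = (NilAction.toBase f z)⁻¹ := fun z =>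
    map_inv (MonoidHom.mk' (NilAction.toBase f : (X ⟶ Red.bc f G) → _) (NilAction.toBase_mul f)) z
  have hn' : NilAction.toBase f (toUnit X ≫ g') = toUnit (Over.mk (X.hom ≫ f)) ≫ g := by
    rw [CentralLift.toBase_comp, NilAction.toBase_ofBase, ← Category.assoc]
    congr 1
  show NilAction.toBase f ((Over.pullback f).map (Chev.inner g)) =
    NilAction.toBase f ((toUnit X ≫ g') * 𝟙 X * (toUnit X ≫ g')⁻¹)
  rw [NilAction.toBase_mul, NilAction.toBase_mul, hinv, hn', ← Category.id_comp ((Over.pullback f).map (Chev.inner g)),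
    Groth.L14.RankOne.toBase_comp_map, Chev.comp_inner]

/-- local conjugacy absorbs an inner automorphism -/
theorem conjLoc_of_inner (i : B ⟶ G) (i' : B' ⟶ G) (g : 𝟙_ _ ⟶ G) (s : S)
    (h : ConjLoc (i ≫ Chev.inner g) i' s) : ConjLoc i i' s := by
  obtain ⟨U, f, hf, hs, g₂, hg₂⟩ := h
  obtain ⟨g', hg'⟩ := map_inner f g
  rw [Functor.map_comp, hg'] at hg₂
  exact ⟨U, f, hf, hs, g₂ * g', conjEq_trans (conjEq_inner _ g') hg₂⟩

/-- inner automorphisms carry Borel subgroups to Borel subgroups -/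
theorem isBorel_inner {i : B ⟶ G} (hB : Red.IsBorel i) (g : 𝟙_ _ ⟶ G) : Red.IsBorel (i ≫ Chev.inner g) := by
  haveI := hB.1; haveI := hB.2.1
  haveI := Chev.isMonHom_inner g
  haveI := Chev.isIso_inner g
  haveI : IsIso (Chev.inner g).left := inferInstanceAs (IsIso ((Over.forget S).map (Chev.inner g)))
  refine ⟨inferInstance, inferInstanceAs (IsClosedImmersion (i.left ≫ (Chev.inner g).left)), hB.2.2.1, fun s => ?_⟩
  obtain ⟨g', hg'⟩ := map_inner (Red.geomPt s) g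
  rw [Functor.map_comp, hg']
  haveI := Chev.isMonHom_inner g'
  haveI := Chev.isIso_inner g'
  haveI : IsMonHom (asIso (Chev.inner g')).hom := inferInstanceAs (IsMonHom (Chev.inner g'))
  haveI : IsMonHom (asIso (Chev.inner g')).inv := by
    have e : (asIso (Chev.inner g')).inv = Chev.inner g'⁻¹ :=
      IsIso.inv_eq_of_hom_inv_id (Chev.inner_inner g')
    rw [e]; exact Chev.isMonHom_inner _
  exact isBorelOver_target (hB.2.2.2 s) (asIso (Chev.inner g'))

end Groth.L14.BorelLoc
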