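import Groth.Agent.L14.BorelLoc.Weyl
import Groth.Agent.S16642
import Groth.Agent.S4116
import Groth.Agent.S5543
import Groth.Agent.S3962

/-!
# Borel subgroups are locally conjugate
-/

set_option autoImplicit false
universe u

open CategoryTheory CategoryTheory.Limits AlgebraicGeometry MonoidalCategory CartesianMonoidalCategory MonObj
open Groth.L14.Chev.Cell

set_option backward.isDefEq.respectTransparency.types false
set_option linter.style.haveILetI false
set_option linter.unusedSectionVars false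
set_option linter.deprecated false
set_option maxHeartbeats 1000000

noncomputable section

namespace Groth.L14.BorelLoc

variable {S : Scheme.{u}} {G B B' : Over S} [GrpObj G] [GrpObj B] [GrpObj B']

/-- Borel subgroups with all positive roots of two bases are conjugate -/
theorem exists_conjEq_of_roots (D : Red.SplitRed G) {i : B ⟶ G} {i' : B' ⟶ G} (hB : Red.IsBorel i)
    (hB' : Red.IsBorel i') (t : D.T ⟶ B) (ht : t ≫ i = D.i) (t' : D.T ⟶ B') (ht' : t' ≫ i' = D.i) (b b' : D.P.Base)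
    (hb : ∀ a ∈ RedSub.posRoots D.P b, ∃ v, v ≫ i = D.u a)
    (hb' : ∀ a ∈ RedSub.posRoots D.P b', ∃ v, v ≫ i' = D.u a) :
    ∃ g : 𝟙_ _ ⟶ G, RedSub.ConjEq i i' g := by
  obtain ⟨l, hl⟩ := exists_word_pos D.P b b'
  obtain ⟨i₁, g, t₁, hB₁, ht₁, hg, hr⟩ := exists_borel_word D b hB t ht hb l
  have hb₁ : ∀ a ∈ RedSub.posRoots D.P b', ∃ v, v ≫ i₁ = D.u a := fun a ha => by
    obtain ⟨c, hc, rfl⟩ := hl a ha
    exact hr c hc
  obtain ⟨m, e, he⟩ := exists_enum (D := D) (RedSub.posRoots D.P b')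
  obtain ⟨φ, hφ⟩ := exists_iso_of_pos D hB₁ t₁ ht₁ he hb₁
  obtain ⟨φ', hφ'⟩ := exists_iso_of_pos D hB' t' ht' he hb'
  exact ⟨g, conjEq_iso hg (φ'.symm ≪≫ φ) (by
    show (φ'.inv ≫ φ.hom) ≫ i₁ = i'
    rw [Category.assoc, hφ, ← hφ', Iso.inv_hom_id_assoc])⟩

/-- the split case -/
theorem conjLoc_split (D : Red.SplitRed G) {i : B ⟶ G} {i' : B' ⟶ G} (hB : Red.IsBorel i) (hB' : Red.IsBorel i')
    (t : D.T ⟶ B) (ht : t ≫ i = D.i) (t' : D.T ⟶ B') (ht' : t' ≫ i' = D.i) (s : S) : ConjLoc i i' s := by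
  obtain ⟨W, hs, -, b, hb⟩ := exists_local_base D i hB t ht s
  obtain ⟨W', hs', -, b', hb'⟩ := exists_local_base D i' hB' t' ht' s
  let V : S.Opens := W ⊓ W'
  have hne : Nonempty ↥(V : Scheme.{u}) := ⟨⟨s, hs, hs'⟩⟩
  obtain ⟨g, hg⟩ := exists_conjEq_of_roots (splitBC V.ι D) (isBorel_bc D.reductive hB V.ι)
    (isBorel_bc D.reductive hB' V.ι) ((Over.pullback V.ι).map t)
    (((Over.pullback V.ι).map_comp t i).symm.trans (congrArg _ ht)) ((Over.pullback V.ι).map t')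
    (((Over.pullback V.ι).map_comp t' i').symm.trans (congrArg _ ht')) b b'
    (fun a ha => (hb _ V.ι (fun v => v.2.1) hne a).2 ha) (fun a ha => (hb' _ V.ι (fun v => v.2.2) hne a).2 ha)
  exact ⟨V, V.ι, inferInstance, ⟨⟨s, hs, hs'⟩, rfl⟩, g, hg⟩

/-- the case of a common maximal torus -/
theorem conjLoc_torus (hG : Red.IsReductive G) {T : Over S} [GrpObj T] {i : B ⟶ G} {i' : B' ⟶ G}
    (hB : Red.IsBorel i) (hB' : Red.IsBorel i') (iT : T ⟶ G) (hT : Red.IsMaximalTorus iT) (t : T ⟶ B)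
    (ht : t ≫ i = iT) (t' : T ⟶ B') (ht' : t' ≫ i' = iT) (s : S) : ConjLoc i i' s := by
  obtain ⟨U, f, hf, ⟨u, hu⟩, D, e, he⟩ := Groth.Agent.S5543.result hG iT hT s
  haveI := hf
  have key := conjLoc_bc f i i' u (conjLoc_split D (isBorel_bc hG hB f) (isBorel_bc hG hB' f)
    (e.hom ≫ (Over.pullback f).map t) (by rw [Category.assoc, ← Functor.map_comp, ht, he])
    (e.hom ≫ (Over.pullback f).map t') (by rw [Category.assoc, ← Functor.map_comp, ht', he]) u)
  have hu' : f u = s := hu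
  rwa [hu'] at key

/-- the case of two maximal tori -/
theorem conjLoc_tori (hG : Red.IsReductive G) {T T' : Over S} [GrpObj T] [GrpObj T'] {i : B ⟶ G} {i' : B' ⟶ G}
    (hB : Red.IsBorel i) (hB' : Red.IsBorel i') (t : T ⟶ B) (hT : Red.IsMaximalTorus (t ≫ i)) (t' : T' ⟶ B')
    (hT' : Red.IsMaximalTorus (t' ≫ i')) (s : S) : ConjLoc i i' s := by
  haveI := hG.1; haveI := hG.2.1
  obtain ⟨V, f, hf, hsurj, g, φ, hφ⟩ := Groth.Agent.S4116.result S G T T' (t ≫ i) (t' ≫ i') hT hT'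
  haveI := hf; haveI := hsurj
  obtain ⟨v, rfl⟩ := f.surjective s
  refine conjLoc_bc f i i' v (conjLoc_of_inner _ _ g v ?_)
  haveI := hB'.1
  refine conjLoc_torus (Groth.L14.Splitting.isReductive_bc hG f) (isBorel_inner (isBorel_bc hG hB f) g)
    (isBorel_bc hG hB' f) ((Over.pullback f).map (t' ≫ i')) (Groth.L08.Borel.isMaximalTorus_bc hT' f)
    (φ.inv ≫ (Over.pullback f).map t) ?_ ((Over.pullback f).map t') ((Over.pullback f).map_comp _ _).symm v
  simp only [Category.assoc]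
  rw [← Functor.map_comp_assoc, Chev.comp_inner, hφ, Iso.inv_hom_id_assoc]

/-- Borel subgroups are parabolic -/
theorem isParabolic_of_isBorel {i : B ⟶ G} (hB : Red.IsBorel i) : Red.IsParabolic i :=
  ⟨hB.1, hB.2.1, hB.2.2.1, fun s =>
    ⟨(hB.2.2.2 s).1, (hB.2.2.2 s).2.1, (hB.2.2.2 s).2.2.1, _, inferInstance, 𝟙 _, by
      rw [Category.id_comp]; exact hB.2.2.2 s⟩⟩

/-- **Borel subgroups are etale locally conjugate** -/
theorem conjLoc_borel (hG : Red.IsReductive G) {i : B ⟶ G} {i' : B' ⟶ G} (hB : Red.IsBorel i) (hB' : Red.IsBorel i')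
    (s : S) : ConjLoc i i' s := by
  obtain ⟨V, f, hf, ⟨v, hv⟩, T, _, t, htm, hT⟩ :=
    Groth.Agent.S16642.result hG i (isParabolic_of_isBorel hB) s
  haveI := hf
  have hv' : f v = s := hv
  subst hv'
  refine conjLoc_bc f i i' v ?_
  have hG₁ := Groth.L14.Splitting.isReductive_bc hG f
  have hB₁ := isBorel_bc hG hB f
  have hB₁' := isBorel_bc hG hB' f
  obtain ⟨W, f', hf', ⟨w, hw⟩, T', _, t', htm', hT'⟩ :=
    Groth.Agent.S16642.result hG₁ ((Over.pullback f).map i') (isParabolic_of_isBorel hB₁') v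
  haveI := hf'
  have hw' : f' w = v := hw
  subst hw'
  haveI := hG₁.1; haveI := hG₁.2.1
  refine conjLoc_bc f' _ _ w (conjLoc_tori (Groth.L14.Splitting.isReductive_bc hG₁ f')
    (isBorel_bc hG₁ hB₁ f') (isBorel_bc hG₁ hB₁' f') ((Over.pullback f').map t) ?_ t' hT' w)
  rw [← Functor.map_comp]
  exact Groth.L08.Borel.isMaximalTorus_bc hT f'

end Groth.L14.BorelLoc
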