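import Groth.Agent.L08.Borel.IsoBase
import Groth.Agent.L08.Borel.Geom

/-!
# Borel subgroups over algebraically closed fields
-/

set_option autoImplicit false
set_option linter.unusedSectionVars false
set_option linter.style.haveILetI false
set_option backward.isDefEq.respectTransparency.types false

universe u

open CategoryTheory CategoryTheory.Limits MonoidalCategory CartesianMonoidalCategory MonObj AlgebraicGeometry

noncomputable section

namespace Groth.L14.BorelLoc

open Groth.L08.Borel

/-- over an algebraically closed field a Borel subgroup stays one on the geometric fibre -/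
theorem isBorel_of_isBorelOver {k : Type u} [Field k] [IsAlgClosed k] {G B : Over (Spec (CommRingCat.of k))}
    [GrpObj G] [GrpObj B] {i : B ⟶ G} (h : Red.IsBorelOver k i) : Red.IsBorel i := by
  haveI := h.1; haveI := h.2.1; haveI := h.2.2.1; haveI := h.2.2.2.1
  refine ⟨h.1, h.2.1, h.2.2.1, fun s => ?_⟩
  obtain ⟨ι', h1, h2⟩ := exists_inverse_geomPt s
  refine ⟨Groth.L25.MonoClosed.isMonHom_pullbackMap _ _, isClosedImmersion_map _ i, smooth_bc _ B,
    connectedSpace_bc' _ B, isSolvableGrp_bc _ h.2.2.2.2.1, fun B' _ i' _ f a1 a2 a3 a4 hf => ?_⟩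
  haveI := a1; haveI := a2; haveI := a3
  haveI := isMonHom_backIso (Red.geomPt s) ι' h1 G
  haveI : IsMonHom ((Over.pullback ι').map i') := Groth.L25.MonoClosed.isMonHom_pullbackMap _ _
  haveI : IsIso (backIso (Red.geomPt s) ι' h1 G).hom.left :=
    inferInstanceAs (IsIso ((Over.forget _).map (backIso (Red.geomPt s) ι' h1 G).hom))
  haveI := isClosedImmersion_map ι' i'
  let i'' : Red.bc ι' B' ⟶ G := (Over.pullback ι').map i' ≫ (backIso (Red.geomPt s) ι' h1 G).hom
  haveI : IsMonHom i'' := inferInstanceAs (IsMonHom (_ ≫ _))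
  let f'' : B ⟶ Red.bc ι' B' := (backIso (Red.geomPt s) ι' h1 B).inv ≫ (Over.pullback ι').map f
  haveI hi : IsIso f'' := h.2.2.2.2.2 _ i'' f''
    (inferInstanceAs (IsClosedImmersion (((Over.pullback ι').map i').left ≫ (backIso (Red.geomPt s) ι' h1 G).hom.left)))
    (smooth_bc ι' B') (connectedSpace_bc' ι' B') (isSolvableGrp_bc ι' a4) (by
      simp only [f'', i'', Category.assoc]
      rw [← Functor.map_comp_assoc, hf, backIso_naturality, Iso.inv_hom_id_assoc])
  have e : (Over.pullback ι').map f = (backIso (Red.geomPt s) ι' h1 B).hom ≫ f'' := by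
    simp only [f'', Iso.hom_inv_id_assoc]
  haveI : IsIso ((Over.pullback ι').map f) := by rw [e]; infer_instance
  have e' := backIso_naturality ι' (Red.geomPt s) h2 f
  rw [← Iso.inv_comp_eq] at e'
  rw [← e']
  infer_instance

end Groth.L14.BorelLoc
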