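import Groth.Agent.L14.BorelLoc.SplitBC
import Groth.Agent.L14.TypeR.Roots

/-!
# Tangent roots after base change
-/

set_option autoImplicit false
universe u

open CategoryTheory CategoryTheory.Limits AlgebraicGeometry MonoidalCategory CartesianMonoidalCategory MonObj
open Groth.L14.RankOne Groth.L25 Groth.L14.Chart Groth.L14.Chev.Cell Groth.L14.TypeR

set_option backward.isDefEq.respectTransparency.types false
set_option linter.style.haveILetI false
set_option linter.unusedSectionVars false
set_option maxHeartbeats 1000000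

noncomputable section

namespace Groth.L14.BorelLoc

variable {S : Scheme.{u}} {G H : Over S} [GrpObj G] [GrpObj H] {D : Red.SplitRed G} {h : H ⟶ G} [IsMonHom h]
  {b : D.P.Base} {n m : ℕ} {eneg : Fin n → D.idx} {epos : Fin m → D.idx}
  (hneg : RedSub.Enumerates (RedSub.negRoots D.P b) eneg) (hpos : RedSub.Enumerates (RedSub.posRoots D.P b) epos)

theorem exists_algebra_point {R : Type u} [CommRing R] {j : Spec (CommRingCat.of R) ⟶ S} [IsOpenImmersion j]
    (p : PrimeSpectrum R) {K : Type u} [Field K] (g : Spec (CommRingCat.of K) ⟶ S) (hg : ∀ z, g z = j p) :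
    ∃ _ : Algebra R K, qK j K = g ∧ RingHom.ker (algebraMap R K) = p.asIdeal := by
  have hr : Set.range g ⊆ Set.range j := by
    rintro _ ⟨z, rfl⟩
    rw [hg]
    exact Set.mem_range_self p
  let f := IsOpenImmersion.lift j g hr
  letI alg : Algebra R K := (Spec.preimage f).hom.toAlgebra
  have hf : Spec.map (CommRingCat.ofHom (algebraMap R K)) = f := by
    rw [RingHom.algebraMap_toAlgebra, CommRingCat.ofHom_hom, Spec.map_preimage]
  refine ⟨alg, by rw [qK, hf, IsOpenImmersion.lift_fac], ?_⟩
  let z := IsLocalRing.closedPoint K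
  have hz : f z = p := j.isOpenEmbedding.injective (by
    show j (f z) = j p
    rw [← Scheme.Hom.comp_apply, IsOpenImmersion.lift_fac, hg])
  have h1 := congrArg PrimeSpectrum.asIdeal hz
  rw [← hf] at h1
  rw [← h1]
  show _ = Ideal.comap _ (IsLocalRing.maximalIdeal _)
  rw [IsLocalRing.maximalIdeal_eq_bot]
  rfl

include hneg hpos in
/-- the tangent roots at a field valued point depend only on the point -/
theorem tanAt_point_iff (hh : IsImmersion h.left) [Smooth H.hom] {K : Type u} [Field K]
    (g : Spec (CommRingCat.of K) ⟶ S) (c : D.idx) :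
    TanAt D h g c ↔ TanAt D h (Red.geomPt (g (IsLocalRing.closedPoint K))) c := by
  classical
  obtain ⟨R, _, j, hj, p, hp⟩ := exists_open_chart (g (IsLocalRing.closedPoint K))
  obtain ⟨Q⟩ := exists_eqns j h (cellList eneg epos) hh (isOpenImmersion_chart hneg hpos)
  rw [← hp, tanAt_geomPt_iff hneg hpos Q p c]
  obtain ⟨alg, hq, hker⟩ := exists_algebra_point (j := j) p g fun z => by
    rw [Subsingleton.elim (α := PrimeSpectrum K) z (IsLocalRing.closedPoint K)]; exact hp.symm
  letI := alg
  rw [tanAt_iff hneg hpos Q _ _ hq]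
  refine forall_congr' fun a => imp_congr_right fun _ => ?_
  rw [← hker, RingHom.mem_ker]

variable {V : Scheme.{u}} (j : V ⟶ S)

/-- a point of the source as a point of the target -/
def spComp {K : Type u} [CommRing K] (g : Spec (CommRingCat.of K) ⟶ V) (C : Type u) [CommRing C] [Algebra K C] :
    (Over.mk ((Sp g C).hom ≫ j) : Over S) ≅ Sp (g ≫ j) C :=
  Over.isoMk (Iso.refl _) (by
    show 𝟙 _ ≫ _ ≫ g ≫ j = (_ ≫ g) ≫ j
    rw [Category.id_comp, Category.assoc])

/-- tangent roots of a base change -/
theorem tanAt_bc [IsMonHom ((Over.pullback j).map h)] {K : Type u} [Field K] (g : Spec (CommRingCat.of K) ⟶ V)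
    (c : D.idx) : TanAt (splitBC j D) ((Over.pullback j).map h) g c ↔ TanAt D h (g ≫ j) c := by
  have hkey : NilAction.toBase j (gp g (DualNumber.eps : DualNumber K) ≫ uBC j D c) =
      ((spComp j g (DualNumber K)).hom ≫ gp (g ≫ j) DualNumber.eps) ≫ D.u c := by
    rw [uBC, ← Category.assoc, Groth.L14.RankOne.toBase_comp_map]
    congr 1
    refine GaPts.gaFn_injective ?_
    show Red.gaFn (_ : Over.mk _ ⟶ Red.Ga S) = _
    rw [← Luna.SemiRank.gaFn_bcGa, Category.assoc, Iso.inv_hom_id, Category.comp_id]
    simp only [gaFn_gp, GaPts.gaFn_comp]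
    simp [spComp, Sp]
  constructor
  · rintro ⟨y, hy⟩
    have hy : y ≫ (Over.pullback j).map h = gp g DualNumber.eps ≫ uBC j D c := hy
    refine ⟨(spComp j g (DualNumber K)).inv ≫ NilAction.toBase j y, ?_⟩
    show (_ ≫ _) ≫ h = _
    rw [Category.assoc, ← Groth.L14.RankOne.toBase_comp_map, hy, hkey, Category.assoc, Iso.inv_hom_id_assoc]
  · rintro ⟨y, hy⟩
    have hy : y ≫ h = gp (g ≫ j) DualNumber.eps ≫ D.u c := hy
    refine ⟨NilAction.ofBase j ((spComp j g (DualNumber K)).hom ≫ y), ?_⟩
    show _ ≫ (Over.pullback j).map h = gp g DualNumber.eps ≫ uBC j D c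
    refine Luna.SemiRank.toBase_inj j ?_
    rw [Groth.L14.RankOne.toBase_comp_map, NilAction.toBase_ofBase, hkey, Category.assoc, hy, Category.assoc]

include hneg hpos in
/-- tangent roots of a base change are read pointwise -/
theorem mem_tanRoots_bc_iff (hh : IsImmersion h.left) [Smooth H.hom] [IsMonHom ((Over.pullback j).map h)] (c : D.idx) :
    c ∈ tanRoots (splitBC j D) ((Over.pullback j).map h) ↔ ∀ v : V, TanAt D h (Red.geomPt (j v)) c := by
  refine forall_congr' fun v => ?_
  rw [show TanAt (splitBC j D) ((Over.pullback j).map h) (Red.geomPt v) c ↔ _ from tanAt_bc j _ c,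
    tanAt_point_iff hneg hpos hh]
  have e : (Red.geomPt v ≫ j) (IsLocalRing.closedPoint _) = j v := by
    rw [Scheme.Hom.comp_apply]
    congr 1
    show (Spec.map _ ≫ V.fromSpecResidueField v) _ = v
    rw [Scheme.Hom.comp_apply]
    exact V.fromSpecResidueField_apply v _
  rw [e]

end Groth.L14.BorelLoc
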