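import Groth.Agent.L14.BorelLoc.BorelBC
import Groth.Agent.L14.BorelLoc.TanPoint
import Groth.Agent.L14.Splitting.OppField
import Groth.Agent.L14.AlmostSimple.Torus

/-!
# Borel subgroups containing a split torus are locally standard
-/

set_option autoImplicit false
universe u

open CategoryTheory CategoryTheory.Limits AlgebraicGeometry MonoidalCategory CartesianMonoidalCategory MonObj
open Groth.L14.Chev.Cell Groth.L14.TypeR Groth.L14.Splitting

set_option backward.isDefEq.respectTransparency.types false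
set_option linter.style.haveILetI false
set_option linter.unusedSectionVars false
set_option linter.deprecated false
set_option maxHeartbeats 1000000

noncomputable section

namespace Groth.L14.BorelLoc

/-- the inclusion of the base change -/
abbrev bcMap {S V : Scheme.{u}} (j : V ⟶ S) {G B : Over S} (i : B ⟶ G) : Red.bc j B ⟶ Red.bc j G :=
  (Over.pullback j).map i

variable {S : Scheme.{u}} {G B : Over S} [GrpObj G] [GrpObj B] (D : Red.SplitRed G)

/-- a Borel subgroup with all positive roots is the standard one -/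
theorem exists_iso_of_pos {i : B ⟶ G} (hB : Red.IsBorel i) (t : D.T ⟶ B) (ht : t ≫ i = D.i) {b : D.P.Base} {m : ℕ}
    {e : Fin m → D.idx} (he : RedSub.Enumerates (RedSub.posRoots D.P b) e)
    (hpos : ∀ a ∈ RedSub.posRoots D.P b, ∃ v, v ≫ i = D.u a) :
    ∃ φ : D.T ⊗ RedSub.pow (Red.Ga S) m ≅ B, φ.hom ≫ i = RedSub.borelMap D e := by
  haveI := hB.1; haveI := hB.2.1; haveI := hB.2.2.1
  obtain ⟨hcl, Bb, _, ib, eb, hBb, hib⟩ := Groth.Agent.S3952.result D b e he
  haveI := hBb.1; haveI := hBb.2.1; haveI := hBb.2.2.1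
  obtain ⟨v, hv⟩ := prodMap_fac i m (fun l => D.u (e l)) fun l =>
    hpos _ (he.2 ▸ Set.mem_range_self l)
  obtain ⟨f₀, hf₀⟩ : ∃ f₀ : D.T ⊗ RedSub.pow (Red.Ga S) m ⟶ B, f₀ ≫ i = RedSub.borelMap D e :=
    ⟨(fst _ _ ≫ t) * (snd _ _ ≫ v), by rw [MonObj.mul_comp, Category.assoc, Category.assoc, ht, hv]; rfl⟩
  let f : Bb ⟶ B := eb.inv ≫ f₀
  have hf : f ≫ i = ib := by rw [Category.assoc, hf₀, ← hib, Iso.inv_hom_id_assoc]
  haveI : Mono f := by
    haveI : Mono ib := Over.mono_of_mono_left ib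
    haveI : Mono (f ≫ i) := by rw [hf]; infer_instance
    exact mono_of_mono f i
  haveI : IsIso f := Groth.L08.Borel.isIso_of_geomFibres f fun s => by
    obtain ⟨hm, hc, hs, hconn, hsol, -⟩ := hB.2.2.2 s
    haveI := hm
    exact (hBb.2.2.2 s).2.2.2.2.2 _ _ _ hc hs hconn hsol (by rw [← Functor.map_comp, hf])
  exact ⟨eb ≪≫ asIso f, by
    show (eb.hom ≫ f) ≫ i = _
    rw [Category.assoc, hf, hib]⟩

/-- **a Borel subgroup containing the torus is locally standard** -/
theorem exists_local_base (i : B ⟶ G) (hB : Red.IsBorel i) (t : D.T ⟶ B) (ht : t ≫ i = D.i) (s₀ : S) :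
    ∃ (W : S.Opens), s₀ ∈ W ∧ IsClosed (W : Set S) ∧ ∃ b : D.P.Base, ∀ (V : Scheme.{u}) (j : V ⟶ S),
      (∀ v, j v ∈ W) → Nonempty V → ∀ a,
        ((∃ v, v ≫ bcMap j i = uBC j D a) ↔ a ∈ RedSub.posRoots D.P b) := by
  classical
  haveI : Nonempty S := ⟨s₀⟩
  haveI := hB.1; haveI := hB.2.1; haveI := hB.2.2.1
  have hh : IsImmersion i.left := inferInstance
  obtain ⟨b₀⟩ := Groth.L14.AlmostSimple.exists_base D
  obtain ⟨n, en, hen⟩ := exists_enum (D := D) (RedSub.negRoots D.P b₀)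
  obtain ⟨m, ep, hep⟩ := exists_enum (D := D) (RedSub.posRoots D.P b₀)
  let C : D.idx → Set S := fun c => if TanAt D i (Red.geomPt s₀) c then {s | TanAt D i (Red.geomPt s) c}
    else {s | TanAt D i (Red.geomPt s) c}ᶜ
  have hC : ∀ c, IsClopen (C c) := fun c => by
    have h := isClopen_tanAt hen hep hh t ht c
    by_cases hc : TanAt D i (Red.geomPt s₀) c
    · simp only [C, hc, if_true]; exact h
    · simp only [C, hc, if_false]; exact h.compl
  have hmem : ∀ s c, s ∈ C c ↔ (TanAt D i (Red.geomPt s) c ↔ TanAt D i (Red.geomPt s₀) c) := fun s c => by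
    by_cases hc : TanAt D i (Red.geomPt s₀) c <;> simp [C, hc]
  have hroots : ∀ (V : Scheme.{u}) (j : V ⟶ S), (∀ v, j v ∈ ⋂ c, C c) → Nonempty V → ∀ a,
      ((∃ v, v ≫ bcMap j i = uBC j D a) ↔ TanAt D i (Red.geomPt s₀) a) := by
    intro V j hj hne a
    haveI := hne
    haveI : IsMonHom (bcMap j i) := Groth.L25.MonoClosed.isMonHom_pullbackMap _ _
    haveI : Smooth (Red.bc j B).hom := MorphismProperty.pullback_snd (P := @Smooth) _ _ hB.2.2.1
    haveI : IsClosedImmersion (bcMap j i).left :=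
      MorphismProperty.overPullbackMap (P := @IsClosedImmersion) _ _ hB.2.1
    have ht' : (Over.pullback j).map t ≫ bcMap j i = (Over.pullback j).map D.i := by
      rw [← Functor.map_comp, ht]
    refine (mem_tanRoots_iff (D := splitBC j D) (b := b₀) hen hep inferInstance ((Over.pullback j).map t) ht' a).trans
      ((mem_tanRoots_bc_iff hen hep j hh a).trans ⟨fun h => ?_, fun h v => ?_⟩)
    · obtain ⟨v⟩ := hne
      exact ((hmem _ a).1 (Set.mem_iInter.1 (hj v) a)).1 (h v)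
    · exact ((hmem _ a).1 (Set.mem_iInter.1 (hj v) a)).2 h
  have hs₀ : ∀ v : ↥(Spec (CommRingCat.of (AlgebraicClosure (S.residueField s₀)))), Red.geomPt s₀ v ∈ ⋂ c, C c :=
    fun v => by
      have e : Red.geomPt s₀ v = s₀ := by
        show (Spec.map _ ≫ S.fromSpecResidueField s₀) v = s₀
        rw [Scheme.Hom.comp_apply]
        exact S.fromSpecResidueField_apply s₀ _
      rw [e]
      exact Set.mem_iInter.2 fun c => (hmem _ c).2 Iff.rfl
  obtain ⟨b, m', e', he', hsub, φ, hφ⟩ := exists_base_eq_borel (splitBC (Red.geomPt s₀) D)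
    (isBorel_bc D.reductive hB (Red.geomPt s₀)) ((Over.pullback (Red.geomPt s₀)).map t)
    (((Over.pullback (Red.geomPt s₀)).map_comp t i).symm.trans (congrArg _ ht))
  refine ⟨⟨⋂ c, C c, isOpen_iInter_of_finite fun c => (hC c).2⟩,
    Set.mem_iInter.2 fun c => (hmem _ c).2 Iff.rfl, isClosed_iInter fun c => (hC c).1, b, fun V j hj hne a => ?_⟩
  rw [hroots V j hj hne a, ← hroots _ _ hs₀ inferInstance a]
  refine ⟨hsub a, fun ha => ?_⟩
  obtain ⟨l, rfl⟩ : a ∈ Set.range e' := by rw [he'.2]; exact ha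
  haveI : IsMonHom (bcMap (Red.geomPt s₀) i) := Groth.L25.MonoClosed.isMonHom_pullbackMap _ _
  obtain ⟨p, hp⟩ := exists_single_tuple (𝟙 (Red.Ga _)) m' (fun l => (splitBC (Red.geomPt s₀) D).u (e' l))
    (fun l => ((splitBC (Red.geomPt s₀) D).rootHom _).1) l
  haveI := (splitBC (Red.geomPt s₀) D).maximalTorus.1
  refine ⟨lift 1 p ≫ φ.hom, ?_⟩
  rw [Category.assoc, hφ]
  show lift 1 p ≫ ((fst _ _ ≫ (splitBC (Red.geomPt s₀) D).i) * (snd _ _ ≫ _)) = _
  rw [MonObj.comp_mul, lift_fst_assoc, lift_snd_assoc, hp, MonObj.one_comp, _root_.one_mul, Category.id_comp]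
  rfl

/-- the standard form of a Borel subgroup near a point -/
theorem exists_local_iso (i : B ⟶ G) (hB : Red.IsBorel i) (t : D.T ⟶ B) (ht : t ≫ i = D.i) (s₀ : S) :
    ∃ (W : S.Opens), s₀ ∈ W ∧ ∃ (b : D.P.Base) (m : ℕ) (e : Fin m → D.idx),
      RedSub.Enumerates (RedSub.posRoots D.P b) e ∧ ∀ (V : Scheme.{u}) (j : V ⟶ S), (∀ v, j v ∈ W) → Nonempty V →
        ∃ φ : (splitBC j D).T ⊗ RedSub.pow (Red.Ga V) m ≅ Red.bc j B,
          φ.hom ≫ bcMap j i = RedSub.borelMap (splitBC j D) e := by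
  obtain ⟨W, hs, -, b, hb⟩ := exists_local_base D i hB t ht s₀
  obtain ⟨m, e, he⟩ := exists_enum (D := D) (RedSub.posRoots D.P b)
  exact ⟨W, hs, b, m, e, he, fun V j hj hne => exists_iso_of_pos (splitBC j D) (isBorel_bc D.reductive hB j)
    ((Over.pullback j).map t) (((Over.pullback j).map_comp t i).symm.trans (congrArg _ ht)) he
    fun a ha => (hb V j hj hne a).2 ha⟩

end Groth.L14.BorelLoc
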