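import Groth.Agent.L14.Splitting.Fibre
import Groth.Agent.L14.Luna.SemiRank.SplitField
import Groth.Agent.L25.Solv.Locus

/-!
# Base change of a splitting, keeping its root homomorphisms
-/

set_option autoImplicit false
set_option linter.unusedSectionVars false
set_option linter.style.haveILetI false
set_option linter.deprecated false
set_option backward.isDefEq.respectTransparency.types false
set_option maxHeartbeats 1000000

universe u

open CategoryTheory CategoryTheory.Limits MonoidalCategory CartesianMonoidalCategory MonObj AlgebraicGeometry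
open Groth.L25 Groth.L14

noncomputable section

namespace Groth.L14.BorelLoc

variable {S V : Scheme.{u}} (j : V ⟶ S) {G : Over S} [GrpObj G] (D : Red.SplitRed G)

theorem toBase_inv {X : Over V} (z : X ⟶ Red.bc j G) : NilAction.toBase j z⁻¹ = (NilAction.toBase j z)⁻¹ :=
  map_inv (MonoidHom.mk' (NilAction.toBase j : (X ⟶ Red.bc j G) → _) (NilAction.toBase_mul j)) z

/-- the base change of the splitting of the torus -/
def eBC : Grp.mk (Red.bc j D.T) ≅ Grp.mk (Red.DS V D.M) :=
  (Over.pullback j).mapGrp.mapIso D.split ≪≫ Grp.mkIso' (SplitSub.bcDS j)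

theorem char_eBC {X : Over V} (t : X ⟶ Red.bc j D.T) :
    DSPts.char (t ≫ (eBC j D).hom.hom.hom) = DSPts.char (NilAction.toBase j t ≫ D.split.hom.hom.hom) := by
  show DSPts.char (t ≫ (Over.pullback j).map D.split.hom.hom.hom ≫ (SplitSub.bcDS j).hom) = _
  rw [← Category.assoc, SplitSub.char_bcDS, Groth.L14.RankOne.toBase_comp_map]

/-- the root homomorphisms of the base change -/
def uBC (a : D.idx) : Red.Ga V ⟶ Red.bc j G := (Luna.SemiRank.bcGa j).inv ≫ (Over.pullback j).map (D.u a)

theorem rootHom_bc (a : D.idx) :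
    Red.IsRootHom ((Over.pullback j).map D.i) ((eBC j D).hom.hom.hom ≫ Red.chi V (D.P.root a)) (uBC j D a) := by
  obtain ⟨hum, huc, heq⟩ := D.rootHom a
  haveI := hum; haveI := huc
  haveI := D.maximalTorus.1
  haveI := Luna.SemiRank.isMonHom_map' j (D.u a)
  haveI := Luna.SemiRank.isMonHom_bcGa j
  haveI : IsIso (Luna.SemiRank.bcGa j).inv.left := (Over.forget _).map_isIso _
  haveI : IsClosedImmersion ((Over.pullback j).map (D.u a)).left :=
    MorphismProperty.overPullbackMap (P := @IsClosedImmersion) _ _ huc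
  refine ⟨inferInstanceAs (IsMonHom ((Luna.SemiRank.bcGa j).inv ≫ (Over.pullback j).map (D.u a))),
    inferInstanceAs (IsClosedImmersion ((Luna.SemiRank.bcGa j).inv.left ≫ ((Over.pullback j).map (D.u a)).left)),
    fun X t x => ?_⟩
  obtain ⟨y, hy, hyv⟩ := heq (Over.mk (X.hom ≫ j)) (NilAction.toBase j t)
    (NilAction.toBase j (x ≫ (Luna.SemiRank.bcGa j).inv))
  refine ⟨NilAction.ofBase j y ≫ (Luna.SemiRank.bcGa j).hom, ?_, ?_⟩
  · refine Luna.SemiRank.toBase_inj j ?_
    simp only [uBC, Category.assoc, Iso.hom_inv_id_assoc, NilAction.toBase_mul, toBase_inv]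
    rw [← Category.assoc x, Groth.L14.RankOne.toBase_comp_map, Groth.L14.RankOne.toBase_comp_map,
      Groth.L14.RankOne.toBase_comp_map, NilAction.toBase_ofBase, hy]
  · rw [Luna.SemiRank.gaFn_bcGa, NilAction.toBase_ofBase, hyv]
    congr 1
    · rw [← Category.assoc t, Luna.SemiRank.gmFn_chi', char_eBC, ← Luna.SemiRank.gmFn_chi', Category.assoc]
    · rw [← Luna.SemiRank.gaFn_bcGa, Category.assoc, Iso.inv_hom_id, Category.comp_id]

theorem refl_bc (a : D.idx) :
    ∃ n : 𝟙_ (Over V) ⟶ Red.bc j G, ∀ (X : Over V) (t : X ⟶ Red.bc j D.T),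
      (toUnit X ≫ n) * (t ≫ (Over.pullback j).map D.i) * (toUnit X ≫ n)⁻¹ =
        t ≫ (eBC j D).hom.hom.hom ≫ Red.DSmap V (D.P.reflection a).toLinearMap.toAddMonoidHom ≫
          (eBC j D).inv.hom.hom ≫ (Over.pullback j).map D.i := by
  obtain ⟨n, hn⟩ := D.refl a
  refine ⟨NilAction.ofBase j (toUnit _ ≫ n), fun X t => ?_⟩
  let n' : 𝟙_ (Over V) ⟶ Red.bc j G := NilAction.ofBase j (toUnit _ ≫ n)
  have hn' : NilAction.toBase j (toUnit X ≫ n') = toUnit (Over.mk (X.hom ≫ j)) ≫ n := by
    rw [CentralLift.toBase_comp, NilAction.toBase_ofBase, ← Category.assoc]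
    congr 1
  refine Luna.SemiRank.toBase_inj j ?_
  rw [NilAction.toBase_mul, NilAction.toBase_mul, toBase_inv, hn', Groth.L14.RankOne.toBase_comp_map,
    hn (Over.mk (X.hom ≫ j)) (NilAction.toBase j t)]
  simp only [← Category.assoc]
  rw [Groth.L14.RankOne.toBase_comp_map]
  congr 1
  haveI : IsIso D.split.hom.hom.hom :=
    ⟨D.split.inv.hom.hom, congrArg (fun f => f.hom.hom) D.split.hom_inv_id,
      congrArg (fun f => f.hom.hom) D.split.inv_hom_id⟩
  rw [← cancel_mono D.split.hom.hom.hom]
  refine DSPts.char_injective ?_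
  simp only [Category.assoc]
  rw [show D.split.inv.hom.hom ≫ D.split.hom.hom.hom = 𝟙 _ from congrArg (fun f => f.hom.hom) D.split.inv_hom_id,
    Category.comp_id, ← char_eBC, Category.assoc, Category.assoc, Category.assoc,
    show (eBC j D).inv.hom.hom ≫ (eBC j D).hom.hom.hom = 𝟙 _ from
      congrArg (fun f => f.hom.hom) (eBC j D).inv_hom_id, Category.comp_id]
  refine MonoidHom.ext fun m => ?_
  rw [← Category.assoc, ← Category.assoc t, SplitSub.char_DSmap, SplitSub.char_DSmap, char_eBC]

include D in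
theorem dim_bc (p : V) : topologicalKrullDim ↥(Red.geomFibre p (Red.bc j G)).left =
    ((Module.finrank ℤ D.M + Fintype.card D.idx : ℕ) : WithBot ℕ∞) := by
  haveI := D.reductive.1; haveI := D.reductive.2.1
  obtain ⟨θ, hθ⟩ := Groth.L08.Borel.exists_geomPt_map j p
  obtain ⟨ψ, rfl⟩ : ∃ ψ, Spec.map ψ = θ := ⟨_, Spec.map_preimage θ⟩
  haveI : LocallyOfFiniteType (Red.geomFibre (j p) G).hom := MorphismProperty.pullback_snd _ _ inferInstance
  rw [← D.dim_fibre (j p), ← Groth.L25.Solv.dim_baseChange_field _ _ (Red.geomFibre (j p) G).hom ψ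
    (Red.bc (Spec.map ψ) (Red.geomFibre (j p) G)).hom (pullback.fst _ _) (IsPullback.of_hasPullback _ _)]
  exact IsHomeomorph.topologicalKrullDim_eq _
    (Scheme.homeoOfIso ((Over.forget _).mapIso (Groth.L08.Borel.fibreIso j (Spec.map ψ) hθ G))).isHomeomorph

/-- **Base change of a splitting.** -/
def splitBC : Red.SplitRed (Red.bc j G) where
  T := Red.bc j D.T
  i := (Over.pullback j).map D.i
  M := D.M
  idx := D.idx
  P := D.P
  pairing_eq := D.pairing_eq
  u := uBC j D
  reductive := Groth.L14.Splitting.isReductive_bc D.reductive j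
  maximalTorus := haveI := D.reductive.1; haveI := D.reductive.2.1
    Groth.L08.Borel.isMaximalTorus_bc D.maximalTorus j
  split := eBC j D
  rootHom := rootHom_bc j D
  refl := refl_bc j D
  dim_fibre := dim_bc j D

end Groth.L14.BorelLoc
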