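import Groth.Agent.L14.BorelLoc.ConjTools
import Groth.Agent.L14.BorelLoc.Local
import Groth.Agent.L14.Chev.Cell.Reflect
import Groth.Agent.L14.Iso.Positive

/-!
# The Weyl group moves Borel subgroups containing the torus
-/

set_option autoImplicit false
universe u

open CategoryTheory CategoryTheory.Limits AlgebraicGeometry MonoidalCategory CartesianMonoidalCategory MonObj
open Groth.L14.RankOne Groth.L25 Groth.L14.Chart Groth.L14.Chev.Cell
open Groth.L24.RootD (wd wd_cons wd_nil IsSimple reflection_smul_idx exists_image_eq exists_minWord_simples)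

set_option backward.isDefEq.respectTransparency.types false
set_option linter.style.haveILetI false
set_option linter.unusedSectionVars false
set_option linter.deprecated false
set_option maxHeartbeats 1000000

noncomputable section

namespace Groth.L14.BorelLoc

section Datum

variable {κ M N : Type} [Finite κ] [AddCommGroup M] [AddCommGroup N] [Module.Free ℤ M] [Module.Free ℤ N]
  (P : RootPairing κ ℤ M N)

theorem wd_smul_eq : ∀ (l : List κ) (c : κ), wd P l • c = RedSub.wordPerm P l c
  | [], c => by simp [wd_nil, RedSub.wordPerm]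
  | a :: l, c => by
    rw [wd_cons, mul_smul, reflection_smul_idx, wd_smul_eq l c]
    simp [RedSub.wordPerm, Equiv.Perm.mul_apply]

/-- systems of positive roots are moved into each other by words -/
theorem exists_word_pos (b b' : P.Base) : ∃ l : List κ, ∀ c' ∈ RedSub.posRoots P b',
    ∃ c ∈ RedSub.posRoots P b, RedSub.wordPerm P l c = c' := by
  haveI := Groth.L14.Chev.Cell.isReduced P b
  haveI := RootCombo.isCrystallographic P
  have hS := (IsSimple.of_base b).isPosSys
  have hS' := (IsSimple.of_base b').isPosSys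
  obtain ⟨g, hg, hgS⟩ := exists_image_eq hS hS'
  obtain ⟨l, -, hlg⟩ := exists_minWord_simples hS hg
  refine ⟨l, fun c' hc' => ?_⟩
  have h : c' ∈ (fun i : κ => g • i) '' _root_.RootD.posOf P (b.support : Set κ) := by rw [hgS]; exact hc'
  obtain ⟨c, hc, rfl⟩ := h
  exact ⟨c, hc, by rw [← wd_smul_eq, hlg]⟩

end Datum

variable {S : Scheme.{u}} {G : Over S} [GrpObj G] (D : Red.SplitRed G)

/-- the automorphism of the torus given by a reflection -/
def reflT (a : D.idx) : D.T ⟶ D.T :=
  D.split.hom.hom.hom ≫ Red.DSmap S (D.P.reflection a).toLinearMap.toAddMonoidHom ≫ D.split.inv.hom.hom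

theorem reflT_reflT (a : D.idx) : reflT D a ≫ reflT D a = 𝟙 D.T := by
  haveI : IsIso D.split.hom.hom.hom :=
    ⟨D.split.inv.hom.hom, congrArg (fun f => f.hom.hom) D.split.hom_inv_id,
      congrArg (fun f => f.hom.hom) D.split.inv_hom_id⟩
  have hih : D.split.inv.hom.hom ≫ D.split.hom.hom.hom = 𝟙 _ := congrArg (fun f => f.hom.hom) D.split.inv_hom_id
  rw [← cancel_mono D.split.hom.hom.hom]
  refine DSPts.char_injective (MonoidHom.ext fun x => ?_)
  simp only [reflT, Category.assoc, hih, Category.comp_id, reassoc_of% hih]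
  rw [← Category.assoc, SplitSub.char_DSmap, SplitSub.char_DSmap, Category.id_comp]
  show DSPts.char D.split.hom.hom.hom (Multiplicative.ofAdd
    (D.P.reflection a (D.P.reflection a (Multiplicative.toAdd x)))) = _
  rw [D.P.reflection_same]
  rfl

/-- a reflection moves a Borel subgroup containing the torus -/
theorem exists_borel_refl (b : D.P.Base) {B : Over S} [GrpObj B] {i : B ⟶ G} (hB : Red.IsBorel i) (t : D.T ⟶ B)
    (ht : t ≫ i = D.i) {Ψ : Set D.idx} (hΨ : ∀ c ∈ Ψ, ∃ v, v ≫ i = D.u c) (a : D.idx) :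
    ∃ (g : 𝟙_ _ ⟶ G) (t' : D.T ⟶ B), t' ≫ i ≫ Chev.inner g = D.i ∧
      ∀ c ∈ Ψ, ∃ v, v ≫ i ≫ Chev.inner g = D.u (D.P.reflectionPerm a c) := by
  obtain ⟨n, hn⟩ := D.refl a
  haveI := hB.2.1
  haveI := Chev.isIso_inner n
  haveI : IsIso (Chev.inner n).left := inferInstanceAs (IsIso ((Over.forget S).map (Chev.inner n)))
  haveI : Mono (i ≫ Chev.inner n) := by
    haveI : Mono (i ≫ Chev.inner n).left := by rw [Over.comp_left]; infer_instance
    exact Over.mono_of_mono_left _
  refine ⟨n, reflT D a ≫ t, ?_, fun c hc => ?_⟩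
  · rw [Category.assoc, ← Category.assoc t, ht, ← Category.assoc, Chev.comp_inner, hn _ (reflT D a)]
    have h := congrArg (· ≫ D.i) (reflT_reflT D a)
    simp only [Category.assoc, Category.id_comp, reflT] at h ⊢
    exact h
  · obtain ⟨v, hv⟩ := hΨ c hc
    haveI := (affSmooth_ga (S := S)).1
    refine exists_lift_of_univ _ _ fun R _ j _ => ?_
    obtain ⟨w, hw⟩ := exists_conj_scale (j := j) b (actsBy_of_refl hn) c
    let y := gv (univ j (Red.Ga S))
    refine ⟨gp j (algebraMap R _ ((w⁻¹ : Rˣ) : R) * y) ≫ v, ?_⟩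
    rw [← Category.assoc, Category.assoc (gp j _) v i, hv, Chev.comp_inner, hw, ← gp_gv (univ j (Red.Ga S)),
      ← _root_.mul_assoc, ← map_mul, Units.mul_inv, map_one, _root_.one_mul]

/-- a word moves a Borel subgroup containing the torus -/
theorem exists_borel_word (b : D.P.Base) {B : Over S} [GrpObj B] {i : B ⟶ G} (hB : Red.IsBorel i) (t : D.T ⟶ B)
    (ht : t ≫ i = D.i) {Ψ : Set D.idx} (hΨ : ∀ c ∈ Ψ, ∃ v, v ≫ i = D.u c) : ∀ l : List D.idx,
    ∃ (i' : B ⟶ G) (g : 𝟙_ _ ⟶ G) (t' : D.T ⟶ B), Red.IsBorel i' ∧ t' ≫ i' = D.i ∧ RedSub.ConjEq i i' g ∧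
      ∀ c ∈ Ψ, ∃ v, v ≫ i' = D.u (RedSub.wordPerm D.P l c) := by
  intro l
  induction l with
  | nil =>
    refine ⟨i, 1, t, hB, ht, fun X x => ⟨fun h => ⟨h, ?_⟩, fun h => ⟨h, ?_⟩⟩, fun c hc => ?_⟩
    · rw [MonObj.comp_one]; group
    · rw [MonObj.comp_one]; group
    · simpa [RedSub.wordPerm] using hΨ c hc
  | cons a l ih =>
    obtain ⟨i', g, t', hB', ht', hg, hr⟩ := ih
    obtain ⟨n, t'', ht'', hr'⟩ := exists_borel_refl D b hB' t' ht'
      (Ψ := RedSub.wordPerm D.P l '' Ψ) (fun c hc => by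
        obtain ⟨c₀, hc₀, rfl⟩ := hc
        exact hr c₀ hc₀) a
    refine ⟨i' ≫ Chev.inner n, n * g, t'', isBorel_inner hB' n, ht'', conjEq_trans hg (conjEq_inner i' n), fun c hc => ?_⟩
    have := hr' _ (Set.mem_image_of_mem _ hc)
    simpa [RedSub.wordPerm, Equiv.Perm.mul_apply] using this

end Groth.L14.BorelLoc
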